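import Groth.Agent.Lib.KindDesc.Imm
import Groth.Agent.H26.H1Quasi
import Groth.Agent.H26.QuasiOps

/-! Composites of immersions of kinds `H_1` and quasi. -/

set_option autoImplicit false

universe u

open CategoryTheory AlgebraicGeometry

namespace Groth.Agent.Lib.H11Reg.KindComp

open Groth.Agent.Lib.KindDesc Groth.Agent.Lib.KindDesc.Loc Groth.Agent.Lib.KindDesc.Imm
open Groth.Agent.Lib.Synt92.KRImm (closed_of_le isAffine_preimage mem_prime_app_iff)

/-- What composition uses: appending a sequence which is `H_1`-regular modulo the first one. -/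
def Appends (Φ : Pred.{u}) : Prop :=
  ∀ {A : Type u} [CommRing A] {n m : ℕ} (f : Fin n → A) (g : Fin m → A), Φ A n f →
    CAlgX.IsH1Regular (fun j => Ideal.Quotient.mk (Ideal.span (Set.range f)) (g j)) →
    Φ A (n + m) (Fin.append f g)

theorem appends_h1 : Appends H1.{u} := fun _ _ hf hg => Groth.Agent.H26.H1Quasi.append hf hg

theorem appends_quasi : Appends Quasi.{u} := fun f g hf hg => Groth.Agent.H26.QuasiOps.append f g hf hg

variable {Φ : Pred.{u}} {A B : Type u} [CommRing A] [CommRing B]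

theorem gen_comp (hΦ : Appends Φ) (φ : A →+* B) (hφ : Function.Surjective φ) {n m : ℕ}
    {L : Ideal B} (hn : Gen Φ n (RingHom.ker φ)) (hm : Gen H1 m L) : Gen Φ (n + m) (L.comap φ) := by
  obtain ⟨f, hf, hker⟩ := hn
  obtain ⟨g', hg', rfl⟩ := hm
  obtain ⟨g, rfl⟩ : ∃ g : Fin m → A, φ ∘ g = g' :=
    ⟨fun i => (hφ (g' i)).choose, funext fun i => (hφ (g' i)).choose_spec⟩
  refine ⟨Fin.append f g, hΦ f g hf ?_, ?_⟩
  · let e : B ≃+* A ⧸ Ideal.span (Set.range f) :=
      (RingHom.quotientKerEquivOfSurjective hφ).symm.trans (Ideal.quotEquivOfEq hker)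
    have he : ∀ a, e (φ a) = Ideal.Quotient.mk (Ideal.span (Set.range f)) a := fun a => by
      have h1 : (RingHom.quotientKerEquivOfSurjective hφ).symm (φ a) =
          Ideal.Quotient.mk (RingHom.ker φ) a :=
        (RingHom.quotientKerEquivOfSurjective hφ).symm_apply_eq.2 rfl
      simp only [e, RingEquiv.trans_apply, h1, Ideal.quotEquivOfEq_mk]
    have h2 := good_h1.flat e.toRingHom (RingHom.Flat.of_bijective e.bijective) hg'
    have h3 : (e.toRingHom ∘ (φ ∘ g)) = fun j => Ideal.Quotient.mk (Ideal.span (Set.range f)) (g j) :=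
      funext fun j => he (g j)
    rw [h3] at h2
    exact h2
  · have hr : Set.range (Fin.append f g) = Set.range f ∪ Set.range g := by
      ext x
      constructor
      · rintro ⟨i, rfl⟩
        induction i using Fin.addCases with
        | left i => exact Or.inl ⟨i, (Fin.append_left f g i).symm⟩
        | right i => exact Or.inr ⟨i, (Fin.append_right f g i).symm⟩
      · rintro (⟨i, rfl⟩ | ⟨i, rfl⟩)
        · exact ⟨_, Fin.append_left f g i⟩
        · exact ⟨_, Fin.append_right f g i⟩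
    rw [hr, Ideal.span_union, ← hker, Set.range_comp, ← Ideal.map_span,
      Ideal.comap_map_of_surjective φ hφ, sup_comm]
    rfl

/-- Composition near a prime. -/
theorem genLoc_comp (hP : Good Φ) (hΦ : Appends Φ) (φ : A →+* B) (hφ : Function.Surjective φ)
    {n m : ℕ} {L : Ideal B} (Q : Ideal B) [Q.IsPrime] (hn : GenLoc Φ n (RingHom.ker φ) (Q.comap φ))
    (hm : GenLoc H1 m L Q) : GenLoc Φ (n + m) (L.comap φ) (Q.comap φ) := by
  obtain ⟨g, hg, hgen⟩ := hn
  obtain ⟨h', hh, hgen'⟩ := hm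
  obtain ⟨h, rfl⟩ := hφ h'
  let SA := Localization.Away (g * h)
  let SB := Localization.Away (φ (g * h))
  haveI : Module.Flat A SA := IsLocalization.flat _ (Submonoid.powers (g * h))
  haveI : Module.Flat B SB := IsLocalization.flat _ (Submonoid.powers (φ (g * h)))
  have hgA : Gen Φ n ((RingHom.ker φ).map (algebraMap A SA)) :=
    gen_of_isUnit hP g (Localization.Away g) hgen SA
      (isUnit_of_mul_isUnit_left (y := algebraMap A SA h)
        (by rw [← map_mul]; exact IsLocalization.Away.algebraMap_isUnit _))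
  have hgB : Gen H1 m (L.map (algebraMap B SB)) :=
    gen_of_isUnit good_h1 (φ h) (Localization.Away (φ h)) hgen' SB
      (isUnit_of_mul_isUnit_right (x := algebraMap B SB (φ g))
        (by rw [← map_mul, ← map_mul]; exact IsLocalization.Away.algebraMap_isUnit _))
  have hT : Submonoid.map φ (Submonoid.powers (g * h)) = Submonoid.powers (φ (g * h)) :=
    Submonoid.map_powers φ _
  haveI : IsLocalization ((Submonoid.powers (g * h)).map φ) SB := by
    rw [hT]; infer_instance
  let ψ : SA →+* SB := IsLocalization.map SB φ (Submonoid.powers (g * h)).le_comap_map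
  have hψs : Function.Surjective ψ :=
    IsLocalization.map_surjective_of_surjective (Submonoid.powers (g * h)) SA SB hφ
  have hψk : RingHom.ker ψ = (RingHom.ker φ).map (algebraMap A SA) := IsLocalization.ker_map SB φ rfl
  refine ⟨g * h, fun h' => (Ideal.IsPrime.mem_or_mem inferInstance h').elim hg hh, ?_⟩
  have e : L.map (algebraMap B SB) = ((L.comap φ).map (algebraMap A SA)).map ψ := by
    rw [Ideal.map_map,
      show ψ.comp (algebraMap A SA) = (algebraMap B SB).comp φ from IsLocalization.map_comp _,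
      ← Ideal.map_map, Ideal.map_comap_of_surjective φ hφ]
  have := gen_comp hΦ ψ hψs (hψk ▸ hgA) hgB
  rwa [e, Ideal.comap_map_of_surjective ψ hψs, ← RingHom.ker_eq_comap_bot, hψk,
    sup_eq_left.2 (Ideal.map_mono (fun x hx => by
      rw [Ideal.mem_comap, RingHom.mem_ker.1 hx]; exact zero_mem _))] at this

/-- Composites. -/
theorem atN_comp {Z Y X : Scheme.{u}} (hP : Good Φ) (hΦ : Appends Φ) {n m : ℕ} (i : Y ⟶ X) (j : Z ⟶ Y)
    (z : Z) (hi : AtN Φ n i (j z)) (hj : AtN H1 m j z) : AtN Φ (n + m) (j ≫ i) z := by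
  obtain ⟨⟨U, hU⟩, hzU, hcU, -⟩ := id hi
  obtain ⟨⟨W, hW⟩, hzW, hcW, -⟩ := id hj
  obtain ⟨hpU, hsU⟩ := isAffine_preimage i hU hcU
  obtain ⟨h, hhW, hzh⟩ := hpU.exists_basicOpen_le (V := W) ⟨j z, hzW⟩ hzU
  obtain ⟨g, rfl⟩ := hsU h
  rw [← Scheme.preimage_basicOpen] at hhW hzh
  let V := X.basicOpen g
  have hV : IsAffineOpen V := hU.basicOpen g
  have hzV : i (j z) ∈ V := hzh
  have hcV : IsClosedImmersion (i ∣_ V) := closed_of_le i (X.basicOpen_le g) hcU
  obtain ⟨hpV, hsV⟩ := isAffine_preimage i hV hcV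
  have hcjV : IsClosedImmersion (j ∣_ (i ⁻¹ᵁ V)) := closed_of_le j hhW hcW
  have hcc : IsClosedImmersion ((j ≫ i) ∣_ V) := by
    rw [morphismRestrict_comp]
    exact MorphismProperty.comp_mem @IsClosedImmersion _ _ hcjV hcV
  refine atN_of_genAt hP hV hcc hzV ?_
  have hiV := genAt_of_atN hP hi hV hcV hzV
  have hjV := genAt_of_atN good_h1 hj hpV hcjV hzV
  haveI := (hpV.primeIdealOf ⟨j z, hzV⟩).isPrime
  have hprime : (hpV.primeIdealOf ⟨j z, hzV⟩).asIdeal.comap (i.app V).hom =
      (hV.primeIdealOf ⟨i (j z), hzV⟩).asIdeal := by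
    ext a
    rw [Ideal.mem_comap, Scheme.Hom.app_eq_appLE]
    exact mem_prime_app_iff i hV hpV le_rfl (j z) hzV a
  unfold GenAt at hiV hjV ⊢
  rw [← hprime] at hiV
  have := genLoc_comp hP hΦ (i.app V).hom hsV _ hiV hjV
  rw [hprime, RingHom.comap_ker] at this
  rw [Scheme.Hom.comp_app]
  exact this

/-- An `H_1`-regular immersion followed by an `H_1`-regular one. -/
theorem isRegularImmersion_h1_comp {Z Y X : Scheme.{u}} (i : Y ⟶ X) (j : Z ⟶ Y)
    (hi : RegImm.IsRegularImmersion .h1 i) (hj : RegImm.IsRegularImmersion .h1 j) :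
    RegImm.IsRegularImmersion .h1 (j ≫ i) := by
  haveI := hi.1
  haveI := hj.1
  refine ⟨inferInstance, fun z => (h1At_iff _ z).2 ?_⟩
  obtain ⟨n, hn⟩ := (h1At_iff i _).1 (hi.2 (j z))
  obtain ⟨m, hm⟩ := (h1At_iff j z).1 (hj.2 z)
  exact ⟨n + m, atN_comp good_h1 appends_h1 i j z hn hm⟩

/-- An `H_1`-regular immersion followed by a quasi-regular one. -/
theorem isRegularImmersion_quasi_comp {Z Y X : Scheme.{u}} (i : Y ⟶ X) (j : Z ⟶ Y)
    (hi : RegImm.IsRegularImmersion .quasi i) (hj : RegImm.IsRegularImmersion .h1 j) :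
    RegImm.IsRegularImmersion .quasi (j ≫ i) := by
  haveI := hi.1
  haveI := hj.1
  refine ⟨inferInstance, fun z => (quasiAt_iff _ z).2 ?_⟩
  obtain ⟨n, hn⟩ := (quasiAt_iff i _).1 (hi.2 (j z))
  obtain ⟨m, hm⟩ := (h1At_iff j z).1 (hj.2 z)
  exact ⟨n + m, atN_comp good_quasi appends_quasi i j z hn hm⟩

end Groth.Agent.Lib.H11Reg.KindComp
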