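import Groth.Agent.Lib.KindDesc.Imm
import Groth.Agent.Lib.KindDesc.SmoothDown
import Groth.Agent.Lib.Synt92.KRImm
import Groth.Agent.Lib.Synt92.KRBase
import Groth.Agent.Lib.Synt92.KRDescentScheme

/-! Regular immersions descend along flat locally finitely presented surjections. -/

set_option autoImplicit false
set_option linter.style.haveILetI false

universe u

open CategoryTheory CategoryTheory.Limits AlgebraicGeometry

namespace Groth.Agent.Lib.H11Reg.KindLocal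

open Groth.Agent.Lib.Synt92.KRImm (closed_of_le exists_closed_chart)

variable {Z X : Scheme.{u}}

/-- Two opens with the same sections kernel. -/
theorem ker_app_comp_ι (i : Z ⟶ X) (O : Z.Opens) (U : X.Opens) (h : i ⁻¹ᵁ U ≤ O) :
    RingHom.ker ((O.ι ≫ i).app U).hom = RingHom.ker (i.app U).hom := by
  haveI : IsIso (O.ι.app (i ⁻¹ᵁ U)) := by
    refine O.ι.isIso_app _ ?_
    rwa [Scheme.Opens.opensRange_ι]
  rw [Scheme.Hom.comp_app]
  exact RingHom.ker_comp_of_injective _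
    (f := (O.ι.app (i ⁻¹ᵁ U)).hom) (ConcreteCategory.bijective_of_isIso (O.ι.app (i ⁻¹ᵁ U))).1

theorem closed_comp_ι (i : Z ⟶ X) (O : Z.Opens) (U : X.Opens) (h : i ⁻¹ᵁ U ≤ O)
    (hcl : IsClosedImmersion (i ∣_ U)) : IsClosedImmersion ((O.ι ≫ i) ∣_ U) := by
  haveI : IsOpenImmersion (O.ι ∣_ (i ⁻¹ᵁ U)) :=
    MorphismProperty.of_isPullback (isPullback_morphismRestrict O.ι _).flip (inferInstance : IsOpenImmersion O.ι)
  haveI : Surjective (O.ι ∣_ (i ⁻¹ᵁ U)) := ⟨fun v => by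
    refine ⟨⟨⟨v.1, h v.2⟩, v.2⟩, ?_⟩
    exact Subtype.ext (congrArg (fun f => f ⟨⟨v.1, h v.2⟩, v.2⟩) (morphismRestrict_ι O.ι (i ⁻¹ᵁ U)))⟩
  haveI : IsIso (O.ι ∣_ (i ⁻¹ᵁ U)) :=
    (isIso_iff_isOpenImmersion_and_surjective _).2 ⟨inferInstance, inferInstance⟩
  have hc : IsClosedImmersion (O.ι ∣_ (i ⁻¹ᵁ U)) := inferInstance
  rw [morphismRestrict_comp]
  exact MorphismProperty.comp_mem @IsClosedImmersion _ _ hc hcl

/-- What the argument uses of a local property of a morphism at a point. -/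
structure IsLocalKind (P : ∀ ⦃Z X : Scheme.{u}⦄, (Z ⟶ X) → Z → Prop) : Prop where
  bc : ∀ {X Y X' Y' : Scheme.{u}} (i : Y ⟶ X) (g : X' ⟶ X) [Flat g] (i' : Y' ⟶ X') (g' : Y' ⟶ Y),
    IsPullback g' i' i g → ∀ z : Y', P i (g' z) → P i' z
  desc : ∀ {X Y X' Y' : Scheme.{u}} (i : Y ⟶ X) [IsImmersion i] (g : X' ⟶ X) [Flat g] [Surjective g]
    [QuasiCompact g] (i' : Y' ⟶ X') [IsImmersion i'] (g' : Y' ⟶ Y),
    IsPullback g' i' i g → (∀ y', P i' y') → ∀ y, P i y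
  above : ∀ {Z X Y : Scheme.{u}} (i : Z ⟶ X) [IsImmersion i] (j : Z ⟶ Y) [IsImmersion j] (p : Y ⟶ X)
    [Smooth p], j ≫ p = i → ∀ z, P j z → P i z
  chart : ∀ {Z X : Scheme.{u}} (i : Z ⟶ X) [IsImmersion i] (O : Z.Opens) (V : X.Opens) (z : O),
    i z.1 ∈ V → i ⁻¹ᵁ V ≤ O → P (O.ι ≫ i) z → P i z.1

theorem descend {P : ∀ ⦃Z X : Scheme.{u}⦄, (Z ⟶ X) → Z → Prop} (hP : IsLocalKind P)
    {X' Z' : Scheme.{u}} (i : Z ⟶ X) [IsImmersion i] (g : X' ⟶ X) [Flat g]
    [LocallyOfFinitePresentation g] [Surjective g] (i' : Z' ⟶ X') (g' : Z' ⟶ Z)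
    (sq : IsPullback g' i' i g) (h : ∀ z', P i' z') (z : Z) : P i z := by
  haveI : IsImmersion i' := MorphismProperty.of_isPullback sq ‹IsImmersion i›
  obtain ⟨A, hA, hzA, -⟩ := exists_isAffineOpen_mem_and_subset (x := i z) (U := (⊤ : X.Opens)) trivial
  obtain ⟨x', hx'⟩ := g.surjective (i z)
  obtain ⟨O, hO, hxO, hOA⟩ := exists_isAffineOpen_mem_and_subset (x := x') (U := g ⁻¹ᵁ A)
    (show g x' ∈ A by rw [hx']; exact hzA)
  let T : X.Opens := ⟨g '' (O : Set X'), g.isOpenMap _ O.2⟩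
  obtain ⟨a, haT, hza⟩ := hA.exists_basicOpen_le (V := T) ⟨i z, ⟨x', hxO, hx'⟩⟩ hzA
  let D := X.basicOpen a
  let O' := O ⊓ g ⁻¹ᵁ D
  have hO' : IsAffineOpen O' := by
    have : O' = X'.basicOpen ((g.appLE A O hOA).hom a) := by rw [Scheme.basicOpen_appLE]
    rw [this]
    exact hO.basicOpen _
  haveI : IsAffine (D : Scheme.{u}) := hA.basicOpen a
  haveI : IsAffine (O' : Scheme.{u}) := hO'
  let q : (O' : Scheme.{u}) ⟶ (D : Scheme.{u}) :=
    IsOpenImmersion.lift D.ι (O'.ι ≫ g) (by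
      rw [Scheme.Opens.range_ι]
      rintro _ ⟨w, rfl⟩
      exact w.2.2)
  have hq : q ≫ D.ι = O'.ι ≫ g := IsOpenImmersion.lift_fac _ _ _
  haveI : Flat q := by
    haveI : Flat (q ≫ D.ι) := hq ▸ inferInstance
    exact MorphismProperty.of_postcomp (W := @Flat) (W' := @IsOpenImmersion) q D.ι inferInstance ‹_›
  haveI : Surjective q := by
    refine ⟨fun d => ?_⟩
    obtain ⟨w, hw, hwd⟩ := haT d.2
    refine ⟨⟨w, hw, show g w ∈ D by rw [hwd]; exact d.2⟩, ?_⟩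
    apply D.ι.isOpenEmbedding.injective
    rw [← Scheme.Hom.comp_apply, hq]
    exact hwd
  -- restrict to the affine open
  have sD : IsPullback (i ⁻¹ᵁ D).ι (i ∣_ D) i D.ι := (isPullback_morphismRestrict i D).flip
  haveI : IsImmersion (i ∣_ D) := MorphismProperty.of_isPullback sD ‹IsImmersion i›
  let Z₁ := pullback (i ∣_ D) q
  have s1 : IsPullback (pullback.fst (i ∣_ D) q) (pullback.snd (i ∣_ D) q) (i ∣_ D) q :=
    IsPullback.of_hasPullback _ _
  have big : IsPullback (pullback.fst (i ∣_ D) q ≫ (i ⁻¹ᵁ D).ι) (pullback.snd (i ∣_ D) q) i (O'.ι ≫ g) :=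
    hq ▸ s1.paste_horiz sD
  let l : Z₁ ⟶ Z' := sq.lift (pullback.fst (i ∣_ D) q ≫ (i ⁻¹ᵁ D).ι)
    (pullback.snd (i ∣_ D) q ≫ O'.ι) (by rw [big.w, Category.assoc])
  have hl1 : l ≫ g' = pullback.fst (i ∣_ D) q ≫ (i ⁻¹ᵁ D).ι := sq.lift_fst _ _ _
  have hl2 : l ≫ i' = pullback.snd (i ∣_ D) q ≫ O'.ι := sq.lift_snd _ _ _
  have s2 : IsPullback l (pullback.snd (i ∣_ D) q) i' O'.ι :=
    IsPullback.of_right (hl1.symm ▸ big) hl2 sq
  haveI : IsImmersion (pullback.snd (i ∣_ D) q) := MorphismProperty.of_isPullback s1 ‹IsImmersion (i ∣_ D)›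
  have h1 : ∀ w, P (i ∣_ D) w :=
    hP.desc (i ∣_ D) q _ _ s1 fun w => hP.bc i' O'.ι _ _ s2 w (h _)
  refine hP.chart i (i ⁻¹ᵁ D) D ⟨z, hza⟩ hza le_rfl ?_
  exact hP.above _ (i ∣_ D) D.ι (morphismRestrict_ι i D) _ (h1 _)

/-- The Koszul kind. -/
theorem isLocalKind_koszul : IsLocalKind.{u} (fun _ _ i z => RegImm.IsRegularImmersionAt .koszul i z) where
  bc i g _ i' g' sq z h := by
    obtain ⟨n, hn⟩ := (Synt92.KRImm.isRegularImmersionAt_iff i _).1 h
    exact (Synt92.KRImm.isRegularImmersionAt_iff i' z).2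
      ⟨n, Synt92.KRBase.atN_baseChange i g i' g' sq z hn⟩
  desc i _ g _ _ _ i' _ g' sq h y := (Synt92.KRImm.isRegularImmersionAt_iff i y).2
    (Synt92.KRDescentScheme.atN_of_baseChange i g i' g' sq ⟨‹_›, h⟩ y)
  above i _ j _ p _ e z h := (Synt92.KRImm.isRegularImmersionAt_iff i z).2
    (Synt92.KRImm.exists_atN_of_above i j p e z ((Synt92.KRImm.isRegularImmersionAt_iff j z).1 h))
  chart i _ O V z hz hle h := by
    obtain ⟨n, hn⟩ := (Synt92.KRImm.isRegularImmersionAt_iff (O.ι ≫ i) z).1 h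
    obtain ⟨⟨U, hU⟩, hzU, hUV, hcU⟩ := exists_closed_chart i z.1 (O := V) hz
    have hle' : i ⁻¹ᵁ U ≤ O := le_trans (i.preimage_mono hUV) hle
    have h2 := Synt92.KRImm.genAt_of_atN hn hU (closed_comp_ι i O U hle' hcU) hzU
    refine (Synt92.KRImm.isRegularImmersionAt_iff i z.1).2
      ⟨n, Synt92.KRImm.atN_of_genAt hU hcU hzU ?_⟩
    unfold Synt92.KRImm.GenAt at h2 ⊢
    rw [ker_app_comp_ι i O U hle'] at h2
    exact h2

theorem isLocalKind_good {Φ : KindDesc.Pred.{u}} (hG : KindDesc.Good Φ) :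
    IsLocalKind.{u} (fun _ _ i z => ∃ n, KindDesc.Imm.AtN Φ n i z) where
  bc i g _ i' g' sq z := fun ⟨n, hn⟩ => ⟨n, KindDesc.Imm.atN_baseChange hG i g i' g' sq z hn⟩
  desc i _ g _ _ _ i' _ g' sq h y := KindDesc.Imm.atN_of_baseChange hG i g i' g' sq h y
  above i _ j _ p _ e z h := KindDesc.SmoothDown.exists_atN_of_above hG i j p e z h
  chart i _ O V z hz hle := fun ⟨n, hn⟩ => by
    obtain ⟨⟨U, hU⟩, hzU, hUV, hcU⟩ := exists_closed_chart i z.1 (O := V) hz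
    have hle' : i ⁻¹ᵁ U ≤ O := le_trans (i.preimage_mono hUV) hle
    have h2 := KindDesc.Imm.genAt_of_atN hG hn hU (closed_comp_ι i O U hle' hcU) hzU
    refine ⟨n, KindDesc.Imm.atN_of_genAt hG hU hcU hzU ?_⟩
    unfold KindDesc.Imm.GenAt at h2 ⊢
    rw [ker_app_comp_ι i O U hle'] at h2
    exact h2

/-- Regular immersions of the kinds Koszul, `H_1`, quasi descend along fppf covers. -/
theorem isRegularImmersion_descend {X' Z' : Scheme.{u}} (k : RegImm.Kind)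
    (hk : k ≠ RegImm.Kind.regular) (i : Z ⟶ X) [IsImmersion i] (g : X' ⟶ X) [Flat g]
    [LocallyOfFinitePresentation g] [Surjective g] (i' : Z' ⟶ X') (g' : Z' ⟶ Z)
    (sq : IsPullback g' i' i g) (h : RegImm.IsRegularImmersion k i') :
    RegImm.IsRegularImmersion k i := by
  refine ⟨‹_›, fun z => ?_⟩
  cases k with
  | regular => exact absurd rfl hk
  | koszul => exact descend isLocalKind_koszul i g i' g' sq h.2 z
  | h1 =>
    exact (KindDesc.Imm.h1At_iff i z).2 (descend (isLocalKind_good KindDesc.good_h1) i g i' g' sq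
      (fun z' => (KindDesc.Imm.h1At_iff i' z').1 (h.2 z')) z)
  | quasi =>
    exact (KindDesc.Imm.quasiAt_iff i z).2 (descend (isLocalKind_good KindDesc.good_quasi) i g i' g' sq
      (fun z' => (KindDesc.Imm.quasiAt_iff i' z').1 (h.2 z')) z)

/-- Flat base change, arbitrary cartesian square. -/
theorem isRegularImmersion_baseChange {X' Z' : Scheme.{u}} (k : RegImm.Kind)
    (hk : k ≠ RegImm.Kind.regular) (i : Z ⟶ X) (g : X' ⟶ X) [Flat g] (i' : Z' ⟶ X') (g' : Z' ⟶ Z)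
    (sq : IsPullback g' i' i g) (h : RegImm.IsRegularImmersion k i) :
    RegImm.IsRegularImmersion k i' := by
  haveI := h.1
  refine ⟨MorphismProperty.of_isPullback sq h.1, fun z => ?_⟩
  cases k with
  | regular => exact absurd rfl hk
  | koszul => exact isLocalKind_koszul.bc i g i' g' sq z (h.2 _)
  | h1 =>
    exact (KindDesc.Imm.h1At_iff i' z).2 ((isLocalKind_good KindDesc.good_h1).bc i g i' g' sq z
      ((KindDesc.Imm.h1At_iff i _).1 (h.2 _)))
  | quasi =>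
    exact (KindDesc.Imm.quasiAt_iff i' z).2 ((isLocalKind_good KindDesc.good_quasi).bc i g i' g' sq z
      ((KindDesc.Imm.quasiAt_iff i _).1 (h.2 _)))

end Groth.Agent.Lib.H11Reg.KindLocal
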